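import Mathlib
import Cfsg.Agent.Lib.SuzukiTwo.HermTwo

/-! An automorphism of the Sylow 2-subgroup of `SU₃(q)`, `q` even, whose square is inner
centralises the centre. -/

namespace CfsgLib.HermCenter

open CfsgLib.InvCharThree CfsgLib.SuzukiTwo CfsgLib.ClassicalGroups

/-- Artin–Schreier: with a nontrivial involutory automorphism all fixed elements are `y² + y`. -/
theorem exists_as_root {F : Type*} [Field F] [Finite F] (h2 : (2 : F) = 0)
    (K : Set F) (hK0 : (0 : F) ∈ K) (hK1 : (1 : F) ∈ K)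
    (hKadd : ∀ a ∈ K, ∀ b ∈ K, a + b ∈ K) (hKmul : ∀ a ∈ K, ∀ b ∈ K, a * b ∈ K)
    (hKinv : ∀ a ∈ K, a⁻¹ ∈ K) (σ : F → F) (hσK : ∀ a ∈ K, σ a ∈ K)
    (hσadd : ∀ a ∈ K, ∀ b ∈ K, σ (a + b) = σ a + σ b)
    (hσmul : ∀ a ∈ K, ∀ b ∈ K, σ (a * b) = σ a * σ b) (hσσ : ∀ a ∈ K, σ (σ a) = a)
    {t : F} (ht : t ∈ K) (htσ : σ t ≠ t) {w : F} (hw : w ∈ K) (hwσ : σ w = w) :
    ∃ y ∈ K, y * y + y = w := by
  classical
  have hz : ∀ a : F, a + a = 0 := fun a => by linear_combination a * h2
  set u := t + σ t with hu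
  have huK : u ∈ K := hKadd t ht _ (hσK t ht)
  have hu0 : u ≠ 0 := fun h => htσ (by linear_combination h - t * h2)
  have huσ : σ u = u := by rw [hu, hσadd t ht _ (hσK t ht), hσσ t ht, add_comm]
  set y0 := t * u⁻¹ with hy0
  have hy0K : y0 ∈ K := hKmul t ht _ (hKinv u huK)
  have hy0σ : σ y0 = y0 + 1 := by
    have h1 : σ (u⁻¹) * σ u = σ 1 := by rw [← hσmul _ (hKinv u huK) u huK, inv_mul_cancel₀ hu0]
    have h11 : σ 1 = 1 := by
      have h := hσmul 1 hK1 1 hK1
      rw [mul_one] at h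
      have hne : σ 1 ≠ 0 := fun e => by
        have := hσσ 1 hK1
        rw [e] at this
        have h0 : σ 0 = 0 := by
          have := hσadd 0 hK0 0 hK0
          rw [add_zero] at this
          linear_combination -this
        rw [h0] at this
        exact zero_ne_one this
      exact (mul_right_eq_self₀.1 h.symm).resolve_right hne
    rw [huσ, h11] at h1
    rw [hy0, hσmul t ht _ (hKinv u huK)]
    have h2' : σ (u⁻¹) = u⁻¹ := eq_inv_of_mul_eq_one_left h1
    rw [h2', show σ t = t + u from by rw [hu]; linear_combination (-t) * h2, add_mul,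
      mul_inv_cancel₀ hu0]
  set w0 := y0 * y0 + y0 with hw0
  let K0 := {a : F // a ∈ K ∧ σ a = a}
  let _ : Fintype K0 := Fintype.ofFinite _
  let wp : K0 → K0 := fun a => ⟨a.1 * a.1 + a.1, hKadd _ (hKmul _ a.2.1 _ a.2.1) _ a.2.1, by
    rw [hσadd _ (hKmul _ a.2.1 _ a.2.1) _ a.2.1, hσmul _ a.2.1 _ a.2.1, a.2.2]⟩
  have hw0K : w0 ∈ K ∧ σ w0 = w0 := ⟨hKadd _ (hKmul _ hy0K _ hy0K) _ hy0K, by
    rw [hw0, hσadd _ (hKmul _ hy0K _ hy0K) _ hy0K, hσmul _ hy0K _ hy0K, hy0σ]
    linear_combination (y0 + 1) * h2⟩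
  have hfib : ∀ a b : K0, wp a = wp b → b.1 = a.1 ∨ b.1 = a.1 + 1 := by
    intro a b h
    have e : a.1 * a.1 + a.1 = b.1 * b.1 + b.1 := congrArg Subtype.val h
    have : (b.1 - a.1) * (b.1 + a.1 + 1) = 0 := by linear_combination -e
    rcases mul_eq_zero.1 this with h' | h'
    · exact Or.inl (sub_eq_zero.1 h')
    · right; linear_combination h' - (a.1 + 1) * h2
  by_cases hs : ∃ a : K0, (wp a).1 = w
  · obtain ⟨a, ha⟩ := hs
    exact ⟨a.1, a.2.1, ha⟩
  push Not at hs
  by_cases hs' : ∃ a : K0, (wp a).1 = w + w0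
  · obtain ⟨a, ha⟩ := hs'
    refine ⟨a.1 + y0, hKadd _ a.2.1 _ hy0K, ?_⟩
    have e : a.1 * a.1 + a.1 = w + w0 := ha
    linear_combination e + (a.1 * y0 + y0 * y0 + y0) * h2 + hw0
  push Not at hs'
  exfalso
  -- `℘(K₀)` and its translates by `w`, `w + w₀` would be three disjoint halves
  have hno : ∀ a : K0, (wp a).1 ≠ w0 := by
    intro a h
    have e : a.1 * a.1 + a.1 = y0 * y0 + y0 := h
    have : (a.1 - y0) * (a.1 + y0 + 1) = 0 := by linear_combination e
    rcases mul_eq_zero.1 this with h' | h'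
    · have := a.2.2
      rw [sub_eq_zero.1 h', hy0σ] at this
      exact one_ne_zero (add_eq_left.1 this)
    · have ha : a.1 = y0 + 1 := by linear_combination h' - (y0 + 1) * h2
      have := a.2.2
      rw [ha, hσadd _ hy0K 1 hK1, hy0σ] at this
      have h11 : σ 1 = 0 := by linear_combination this
      have := hσσ 1 hK1
      rw [h11] at this
      have h0 : σ 0 = 0 := by
        have := hσadd 0 hK0 0 hK0
        rw [add_zero] at this
        linear_combination -this
      rw [h0] at this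
      exact zero_ne_one this
  let img := Finset.univ.image wp
  have hcard : Fintype.card K0 ≤ 2 * img.card := by
    rw [← Finset.card_univ (α := K0)]
    refine Finset.card_le_mul_card_image (Finset.univ : Finset K0) 2 ?_
    intro b hb
    obtain ⟨a, -, rfl⟩ := Finset.mem_image.1 hb
    refine (Finset.card_le_card (t := Finset.univ.filter (fun b => b.1 = a.1 ∨ b.1 = a.1 + 1)) ?_).trans ?_
    · intro b hb
      rw [Finset.mem_filter] at hb ⊢
      exact ⟨Finset.mem_univ _, hfib a b hb.2.symm⟩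
    · refine le_trans (Finset.card_le_card_of_injOn (t := ({a.1, a.1 + 1} : Finset F)) Subtype.val ?_
        (Subtype.val_injective.injOn)) (Finset.card_le_two)
      intro b hb
      simpa using (Finset.mem_filter.1 hb).2
  have hsub : ∀ a b : K0, (wp a).1 + (wp b).1 ∈ (fun x : K0 => x.1) '' Set.range wp := by
    intro a b
    refine ⟨wp ⟨a.1 + b.1, hKadd _ a.2.1 _ b.2.1, by rw [hσadd _ a.2.1 _ b.2.1, a.2.2, b.2.2]⟩, ⟨_, rfl⟩, ?_⟩
    show (a.1 + b.1) * (a.1 + b.1) + (a.1 + b.1) = (a.1 * a.1 + a.1) + (b.1 * b.1 + b.1)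
    linear_combination a.1 * b.1 * h2
  let shift : (c : K0) → K0 → K0 := fun c b => ⟨c.1 + b.1, hKadd _ c.2.1 _ b.2.1, by
    rw [hσadd _ c.2.1 _ b.2.1, c.2.2, b.2.2]⟩
  have hdis : ∀ c : K0, (∀ a, (wp a).1 ≠ c.1) → Disjoint img (img.image (shift c)) := by
    intro c hc
    rw [Finset.disjoint_left]
    intro x hx hx'
    obtain ⟨y, hy, rfl⟩ := Finset.mem_image.1 hx'
    obtain ⟨a, -, ha⟩ := Finset.mem_image.1 hx
    obtain ⟨b, -, rfl⟩ := Finset.mem_image.1 hy
    obtain ⟨_, ⟨d, rfl⟩, hd⟩ := hsub a b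
    refine hc d ?_
    have e : (wp a).1 = c.1 + (wp b).1 := congrArg Subtype.val ha
    rw [show (wp d).1 = (wp a).1 + (wp b).1 from hd, e]
    linear_combination (wp b).1 * h2
  have hinj : ∀ c, Function.Injective (shift c) := fun c a b h =>
    Subtype.ext (add_left_cancel (congrArg Subtype.val h))
  let c1 : K0 := ⟨w, hw, hwσ⟩
  let c2 : K0 := ⟨w + w0, hKadd _ hw _ hw0K.1, by rw [hσadd _ hw _ hw0K.1, hwσ, hw0K.2]⟩
  have hd1 := hdis c1 hs
  have hd2 := hdis c2 hs'
  have hd3 : Disjoint (img.image (shift c1)) (img.image (shift c2)) := by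
    rw [Finset.disjoint_left]
    intro x hx hx'
    obtain ⟨y, hy, rfl⟩ := Finset.mem_image.1 hx
    obtain ⟨y', hy', h⟩ := Finset.mem_image.1 hx'
    obtain ⟨a, -, rfl⟩ := Finset.mem_image.1 hy
    obtain ⟨b, -, rfl⟩ := Finset.mem_image.1 hy'
    obtain ⟨_, ⟨d, rfl⟩, hd⟩ := hsub a b
    refine hno d ?_
    have e : w + w0 + (wp b).1 = w + (wp a).1 := congrArg Subtype.val h
    rw [show (wp d).1 = (wp a).1 + (wp b).1 from hd]
    linear_combination (wp b).1 * h2 - e
  have hle := Finset.card_le_univ (img ∪ img.image (shift c1) ∪ img.image (shift c2))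
  rw [Finset.card_union_of_disjoint (Finset.disjoint_union_left.2 ⟨hd2, hd3⟩),
    Finset.card_union_of_disjoint hd1, Finset.card_image_of_injective _ (hinj c1),
    Finset.card_image_of_injective _ (hinj c2)] at hle
  have : 0 < img.card := Finset.card_pos.2 ⟨wp ⟨0, hK0, by
    have := hσadd 0 hK0 0 hK0
    rw [add_zero] at this
    linear_combination -this⟩, Finset.mem_image_of_mem _ (Finset.mem_univ _)⟩
  omega

variable {F : Type*} [Field F] [Fintype F] {q : ℕ} (hF : Fintype.card F = q ^ 2) (he : Even q)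
include hF he

/-- The main computation. -/
theorem core (hq : 2 ≤ q) (γ : letI := hermGroup hF he; Herm F q ≃* Herm F q)
    (hγ : letI := hermGroup hF he; ∃ s : Herm F q, ∀ x, γ (γ x) = s * x * s⁻¹) :
    letI := hermGroup hF he; ∀ x ∈ Subgroup.center (Herm F q), γ x = x := by
  classical
  let _ := hermGroup hF he
  have h2 := two_eq_zero hF he
  have hq0 : q ≠ 0 := by omega
  have hfrob : ∀ a b : F, (a + b) ^ q = a ^ q + b ^ q := fun a b => map_add (hermConj hF) a b
  have hqq : ∀ a : F, (a ^ q) ^ q = a := fun a => hermConj_conj hF a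
  let K : Set F := {a | a ^ q = a}
  have hK : ∀ a, a ∈ K ↔ a ^ q = a := fun _ => Iff.rfl
  have hK0 : (0 : F) ∈ K := zero_pow hq0
  have hK1 : (1 : F) ∈ K := one_pow q
  have hKadd : ∀ a ∈ K, ∀ b ∈ K, a + b ∈ K := fun a ha b hb => by rw [hK, hfrob, ha, hb]
  have hKmul : ∀ a ∈ K, ∀ b ∈ K, a * b ∈ K := fun a ha b hb => by rw [hK, mul_pow, ha, hb]
  have hKinv : ∀ a ∈ K, a⁻¹ ∈ K := fun a ha => by rw [hK, inv_pow, ha]
  have hnorm : ∀ a : F, a ^ (q + 1) ∈ K := fun a => norm_fixed hF a
  have hsq : ∀ c ∈ K, ∃ d ∈ K, d * d = c := by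
    intro c hc
    have : ∃ d, d * d = c := by
      have hinj : Function.Injective (fun d : F => d * d) := fun a b h => by
        have h' : (a - b) * (a - b) = 0 := by linear_combination h + (b * b - a * b) * h2
        exact sub_eq_zero.1 (mul_self_eq_zero.1 h')
      exact Finite.injective_iff_surjective.1 hinj c
    obtain ⟨d, rfl⟩ := this
    refine ⟨d, ?_, rfl⟩
    have h : (d ^ q - d) * (d ^ q - d) = 0 := by
      have hc' : d ^ q * d ^ q = d * d := by rw [← mul_pow]; exact hc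
      linear_combination hc' + (d * d - d ^ q * d) * h2
    exact sub_eq_zero.1 (mul_self_eq_zero.1 h)
  -- the induced maps
  have hlift : ∀ a : F, ∃ x : Herm F q, x.a = a := by
    intro a
    have hc := card_trace_fibre hF he (norm_fixed hF a)
    obtain ⟨⟨b, hb⟩⟩ : Nonempty {b : F // b + b ^ q = a ^ (q + 1)} :=
      (Nat.card_pos_iff.1 (by omega)).1
    exact ⟨⟨a, b, hb⟩, rfl⟩
  let A : F → F := fun a => (γ (hlift a).choose).a
  have hAx : ∀ x : Herm F q, (γ x).a = A x.a := by
    intro x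
    set y := (hlift x.a).choose with hy
    have hya : y.a = x.a := (hlift x.a).choose_spec
    show _ = (γ y).a
    have hc : y⁻¹ * x ∈ Subgroup.center (Herm F q) := by
      rw [herm_mem_center_iff hF he hq, herm_mul_a hF he, herm_inv_a hF he, hya]
      linear_combination x.a * h2
    have hc' : γ (y⁻¹ * x) ∈ Subgroup.center (Herm F q) := by
      rw [← Subgroup.characteristic_iff_map_eq.1 (inferInstance : (Subgroup.center (Herm F q)).Characteristic) γ]
      exact Subgroup.mem_map_of_mem _ hc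
    rw [herm_mem_center_iff hF he hq, map_mul, map_inv, herm_mul_a hF he, herm_inv_a hF he] at hc'
    linear_combination hc' - (γ y).a * h2
  have hAadd : ∀ a b, A (a + b) = A a + A b := by
    intro a b
    obtain ⟨x, rfl⟩ := hlift a
    obtain ⟨y, rfl⟩ := hlift b
    rw [← herm_mul_a hF he, ← hAx, map_mul, herm_mul_a hF he, hAx, hAx]
  have hAA : ∀ a, A (A a) = a := by
    intro a
    obtain ⟨x, rfl⟩ := hlift a
    obtain ⟨s, hs⟩ := hγ
    have h1 : (γ (γ x)).a = A (A x.a) := by rw [hAx, hAx]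
    rw [← h1, hs, herm_mul_a hF he, herm_mul_a hF he, herm_inv_a hF he]
    linear_combination s.a * h2
  have hA0 : A 0 = 0 := by
    have := hAadd 0 0
    rw [add_zero] at this
    linear_combination -this
  have hAne : ∀ a, a ≠ 0 → A a ≠ 0 := fun a ha h => ha (by rw [← hAA a, h, hA0])
  -- `B (N a) = N (A a)`
  let B : F → F := fun c => if h : c ∈ K then
    (γ ⟨0, c, by rw [h, zero_pow (by omega : q + 1 ≠ 0)]; linear_combination c * h2⟩).b else 0
  have hBx : ∀ x : Herm F q, x.a = 0 → (γ x).b = B x.b := by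
    intro x hx
    have hxb : x.b ∈ K := by
      have := x.rel
      rw [hx, zero_pow (by omega : q + 1 ≠ 0)] at this
      rw [hK]; linear_combination this - x.b * h2
    simp only [B, dif_pos hxb]
    congr 2
    exact Herm.ext hx rfl
  have hBN : ∀ a : F, B (a ^ (q + 1)) = A a ^ (q + 1) := by
    intro a
    obtain ⟨x, rfl⟩ := hlift a
    have e1 : (x * x).a = 0 := by rw [herm_mul_a hF he]; linear_combination x.a * h2
    have e2 : (x * x).b = x.a ^ (q + 1) := by rw [herm_mul_b hF he, pow_succ]; linear_combination x.b * h2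
    rw [← e2, ← hBx _ e1, map_mul, herm_mul_b hF he, hAx, pow_succ]
    linear_combination (γ x).b * h2
  have hBadd : ∀ c ∈ K, ∀ d ∈ K, B (c + d) = B c + B d := by
    intro c hc d hd
    let xc : Herm F q := ⟨0, c, by rw [(hK c).1 hc, zero_pow (by omega : q + 1 ≠ 0)]; linear_combination c * h2⟩
    let xd : Herm F q := ⟨0, d, by rw [(hK d).1 hd, zero_pow (by omega : q + 1 ≠ 0)]; linear_combination d * h2⟩
    have e1 : (xc * xd).a = 0 := by rw [herm_mul_a hF he]; exact add_zero 0
    have e2 : (xc * xd).b = c + d := by rw [herm_mul_b hF he]; simp [xc, xd, zero_pow hq0]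
    rw [← e2, ← hBx _ e1, map_mul, herm_mul_b hF he, hBx xc rfl, hBx xd rfl, hAx, hAx]
    simp [xc, xd, hA0, zero_pow hq0]
  -- lines go to lines
  have hline : ∀ a, a ≠ 0 → ∀ l ∈ K, ∃ k ∈ K, A (l * a) = k * A a := by
    intro a ha l hl
    obtain ⟨x, hx⟩ := hlift a
    obtain ⟨y, hy⟩ := hlift (l * a)
    have hcom : x * y = y * x := Herm.ext (by rw [herm_mul_a hF he, herm_mul_a hF he, add_comm]) (by
      rw [herm_mul_b hF he, herm_mul_b hF he, hx, hy, mul_pow, (hK l).1 hl]; ring)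
    have hb := congrArg Herm.b (congrArg γ hcom)
    rw [map_mul, map_mul, herm_mul_b hF he, herm_mul_b hF he, hAx, hAx, hx, hy] at hb
    refine ⟨A (l * a) / A a, ?_, (div_mul_cancel₀ _ (hAne a ha)).symm⟩
    rw [hK, div_pow, div_eq_div_iff (pow_ne_zero _ (hAne a ha)) (hAne a ha)]
    linear_combination -hb
  -- a fixed vector
  obtain ⟨e, he0, hAe⟩ : ∃ e, e ≠ 0 ∧ A e = e := by
    by_cases h : ∀ a, A a = a
    · exact ⟨1, one_ne_zero, h 1⟩
    push Not at h
    obtain ⟨a, ha⟩ := h
    exact ⟨a + A a, fun h0 => ha (by linear_combination h0 - a * h2), by rw [hAadd, hAA, add_comm]⟩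
  have hsig : ∀ v, v ≠ 0 → A v = v → ∀ l ∈ K, A (l * v) / v ∈ K := by
    intro v hv hAv l hl
    obtain ⟨k, hk, h⟩ := hline v hv l hl
    rw [h, hAv, mul_div_cancel_right₀ _ hv]; exact hk
  let σ : F → F := fun l => A (l * e) / e
  have hσA : ∀ l, A (l * e) = σ l * e := fun l => (div_mul_cancel₀ _ he0).symm
  have hσK : ∀ l ∈ K, σ l ∈ K := hsig e he0 hAe
  have hσadd : ∀ a ∈ K, ∀ b ∈ K, σ (a + b) = σ a + σ b := fun a _ b _ => by
    show A _ / e = A _ / e + A _ / e
    rw [add_mul, hAadd, add_div]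
  have hσσ : ∀ a ∈ K, σ (σ a) = a := fun a _ => by
    show A (σ a * e) / e = a
    rw [← hσA, hAA, mul_div_cancel_right₀ _ he0]
  set P := e ^ (q + 1) with hP
  have hP0 : P ≠ 0 := pow_ne_zero _ he0
  have hN : ∀ l ∈ K, ∀ v : F, (l * v) ^ (q + 1) = l * l * v ^ (q + 1) := fun l hl v => by
    rw [mul_pow, pow_succ l, (hK l).1 hl]
  have hBsq : ∀ l ∈ K, B (l * l * P) = σ l * σ l * P := by
    intro l hl
    rw [hP, ← hN l hl, hBN, hσA, hN _ (hσK l hl)]
  -- it suffices that `σ` is trivial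
  suffices hid : ∀ l ∈ K, σ l = l by
    intro x hx
    rw [herm_mem_center_iff hF he hq] at hx
    have hxb : x.b ∈ K := by
      have := x.rel
      rw [hx, zero_pow (by omega : q + 1 ≠ 0)] at this
      rw [hK]; linear_combination this - x.b * h2
    obtain ⟨l, hl, hll⟩ := hsq (x.b * P⁻¹) (hKmul _ hxb _ (hKinv _ (hnorm e)))
    refine Herm.ext (by rw [hAx, hx, hA0]) ?_
    rw [hBx x hx, show x.b = l * l * P by rw [hll, inv_mul_cancel_right₀ hP0], hBsq l hl, hid l hl]
  obtain ⟨f, hf⟩ : ∃ f : F, f * e⁻¹ ∉ K := by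
    by_contra hall
    push Not at hall
    have hall' : ∀ a : F, a ^ q = a := fun a => by
      have := hall (a * e)
      rwa [mul_inv_cancel_right₀ he0] at this
    have h1 := card_fixed_le (F := F) (q := q) hF
    rw [Nat.card_congr (Equiv.subtypeUnivEquiv (fun a => hall' a)), Nat.card_eq_fintype_card, hF,
      pow_two] at h1
    nlinarith
  have hindep : ∀ f, f * e⁻¹ ∉ K → ∀ a ∈ K, ∀ b ∈ K, a * e + b * f = 0 → a = 0 ∧ b = 0 := by
    intro f hf a ha b hb h
    by_cases hb0 : b = 0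
    · subst hb0
      rw [zero_mul, add_zero] at h
      exact ⟨(mul_eq_zero.1 h).resolve_right he0, rfl⟩
    · exfalso
      refine hf ?_
      have : f * e⁻¹ = a * b⁻¹ := by
        field_simp
        linear_combination h - a * e * h2
      rw [this]
      exact hKmul _ ha _ (hKinv _ hb)
  by_cases htwo : ∃ f, f * e⁻¹ ∉ K ∧ A f = f
  · -- two independent fixed vectors: `σ` is a field automorphism
    obtain ⟨f, hf, hAf⟩ := htwo
    have hf0 : f ≠ 0 := fun h => hf (by rw [h, zero_mul]; exact hK0)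
    have hσf : ∀ l ∈ K, A (l * f) = σ l * f := by
      intro l hl
      obtain ⟨k, hk, h1⟩ := hline f hf0 l hl
      rw [hAf] at h1
      have hef : e + f ≠ 0 := fun h => hf (by
        have : f = e := by linear_combination h - e * h2
        rw [this, mul_inv_cancel₀ he0]; exact hK1)
      obtain ⟨m, hm, h3⟩ := hline (e + f) hef l hl
      rw [mul_add, hAadd, hAadd, hAe, hAf, hσA, h1] at h3
      obtain ⟨hσm, hkm⟩ := hindep f hf (σ l + m) (hKadd _ (hσK l hl) _ hm) (k + m) (hKadd _ hk _ hm)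
        (by linear_combination h3 + (m * e + m * f) * h2)
      rw [h1]
      congr 1
      linear_combination hkm - hσm
    set T := e ^ q * f + f ^ q * e with hT
    have hTK : T ∈ K := by
      rw [hK, hT, hfrob, mul_pow, mul_pow, hqq, hqq]; ring
    have hT0 : T ≠ 0 := by
      intro h
      refine hf ((hK _).2 ?_)
      rw [mul_pow, inv_pow]
      field_simp
      linear_combination h - e ^ q * f * h2
    set Q := f ^ (q + 1) with hQ
    have hexp : ∀ l ∈ K, ∀ m ∈ K, (l * e + m * f) ^ (q + 1) = l * l * P + l * m * T + m * m * Q := by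
      intro l hl m hm
      rw [pow_succ, hfrob, mul_pow, mul_pow, (hK l).1 hl, (hK m).1 hm, hP, hQ, hT, pow_succ, pow_succ]
      ring
    have hBT : ∀ l ∈ K, ∀ m ∈ K, B (l * m * T) = σ l * σ m * T := by
      intro l hl m hm
      have h := hBN (l * e + m * f)
      rw [hexp l hl m hm, hAadd, hσA, hσf m hm, hexp _ (hσK l hl) _ (hσK m hm)] at h
      have hBQ : B (m * m * Q) = σ m * σ m * Q := by
        rw [hQ, ← hN m hm, hBN, hσf m hm, hN _ (hσK m hm)]
      have k1 : l * l * P ∈ K := hKmul _ (hKmul _ hl _ hl) _ (hnorm e)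
      have k2 : l * m * T ∈ K := hKmul _ (hKmul _ hl _ hm) _ hTK
      rw [hBadd _ (hKadd _ k1 _ k2) _ (hKmul _ (hKmul _ hm _ hm) _ (hnorm f)), hBadd _ k1 _ k2,
        hBsq l hl, hBQ] at h
      linear_combination h
    have hσ1 : σ 1 = 1 := by
      show A (1 * e) / e = 1
      rw [one_mul, hAe, div_self he0]
    have hBl : ∀ l ∈ K, B (l * T) = σ l * T := fun l hl => by
      have := hBT l hl 1 hK1
      rwa [mul_one, hσ1, mul_one] at this
    have hσmul : ∀ a ∈ K, ∀ b ∈ K, σ (a * b) = σ a * σ b := fun a ha b hb =>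
      mul_right_cancel₀ hT0 ((hBl _ (hKmul _ ha _ hb)).symm.trans (hBT a ha b hb))
    -- the fixed quadratic form
    have hfix : ∀ v : F, A v = v → v ^ (q + 1) * T⁻¹ ∈ K ∧ σ (v ^ (q + 1) * T⁻¹) = v ^ (q + 1) * T⁻¹ := by
      intro v hv
      have hk : v ^ (q + 1) * T⁻¹ ∈ K := hKmul _ (hnorm v) _ (hKinv _ hTK)
      refine ⟨hk, ?_⟩
      have := hBl _ hk
      rw [inv_mul_cancel_right₀ hT0, hBN, hv] at this
      rw [eq_mul_inv_iff_mul_eq₀ hT0]
      exact this.symm
    intro l hl
    by_contra hne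
    obtain ⟨hpK, hpσ⟩ := hfix e hAe
    obtain ⟨hrK, hrσ⟩ := hfix f hAf
    obtain ⟨y, hy, hyw⟩ := exists_as_root h2 K hK0 hK1 hKadd hKmul hKinv σ hσK hσadd hσmul hσσ hl hne
      (hKmul _ hpK _ hrK) (by rw [hσmul _ hpK _ hrK, hpσ, hrσ])
    -- an isotropic vector
    have hvec : (y * T * P⁻¹ * e + 1 * f) ^ (q + 1) = 0 := by
      rw [hexp _ (hKmul _ (hKmul _ hy _ hTK) _ (hKinv _ (hnorm e))) 1 hK1]
      rw [hP, hQ]
      have hyw' : (y * y + y) * (T * T) = e ^ (q + 1) * f ^ (q + 1) := by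
        rw [hyw]; field_simp
      field_simp
      linear_combination hyw' + e ^ (q + 1) * f ^ (q + 1) * h2
    obtain ⟨-, h1⟩ := hindep f hf _ (hKmul _ (hKmul _ hy _ hTK) _ (hKinv _ (hnorm e))) 1 hK1
      (eq_zero_of_pow_eq_zero hvec)
    exact one_ne_zero h1
  · -- one fixed line: `A` is linear
    push Not at htwo
    have hf0 : f ≠ 0 := fun h => hf (by rw [h, zero_mul]; exact hK0)
    set k0 := (f + A f) * e⁻¹ with hk0
    have hfixline : ∀ a, (a + A a) * e⁻¹ ∈ K := by
      intro a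
      by_contra h
      exact htwo _ h (by rw [hAadd, hAA, add_comm])
    have hk0K : k0 ∈ K := hfixline f
    have hAf : A f = f + k0 * e := by
      rw [hk0, inv_mul_cancel_right₀ he0]; linear_combination -f * h2
    intro l hl
    obtain ⟨m, hm, h1⟩ := hline f hf0 l hl
    -- `A (l f) = l (A f)`
    have hm' : m = l := by
      have h := hfixline (l * f)
      rw [h1, hAf] at h
      set c := (l * f + m * (f + k0 * e)) * e⁻¹ with hc
      obtain ⟨-, hb⟩ := hindep f hf (c + m * k0) (hKadd _ h _ (hKmul _ hm _ hk0K)) (l + m)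
        (hKadd _ hl _ hm) (by
          rw [hc, add_mul, inv_mul_cancel_right₀ he0]
          linear_combination (l * f + m * f + m * k0 * e) * h2)
      linear_combination hb - l * h2
    subst hm'
    -- the line through `e + f`
    have hef : e + f ≠ 0 := fun h => hf (by
      have : f = e := by linear_combination h - e * h2
      rw [this, mul_inv_cancel₀ he0]; exact hK1)
    obtain ⟨r, hr, h3⟩ := hline (e + f) hef m hm
    rw [mul_add, hAadd, hAadd, hAe, hσA, h1, hAf] at h3
    obtain ⟨ha, hb⟩ := hindep f hf (σ m + m * k0 + r + r * k0)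
      (hKadd _ (hKadd _ (hKadd _ (hσK m hm) _ (hKmul _ hm _ hk0K)) _ hr) _ (hKmul _ hr _ hk0K))
      (m + r) (hKadd _ hm _ hr) (by linear_combination h3 + (r * e + r * f + r * k0 * e) * h2)
    linear_combination ha - (1 + k0) * hb

/-- An index-two overgroup centralises the centre. -/
theorem main {R : Type*} [Group R] (hq : 2 ≤ q) (S : Subgroup R) (hidx : S.index = 2)
    (e : letI := hermGroup hF he; ↥S ≃* Herm F q) :
    (Subgroup.center ↥S).map S.subtype ≤ Subgroup.center R := by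
  classical
  let _ := hermGroup hF he
  rintro _ ⟨c, hc, rfl⟩
  have hn : S.Normal := Subgroup.normal_of_index_eq_two hidx
  obtain ⟨r, hr⟩ := Subgroup.index_eq_two_iff_exists_notMem_and.1 hidx
  have hrr : r * r ∈ S := by
    rcases hr.2 r with h | h
    · exact h
    · exact absurd h hr.1
  let κ : ↥S ≃* ↥S :=
    { toFun := fun s => ⟨r * s * r⁻¹, hn.conj_mem _ s.2 r⟩
      invFun := fun s => ⟨r⁻¹ * s * r, by simpa using hn.conj_mem _ s.2 r⁻¹⟩
      left_inv := fun s => by ext; simp [mul_assoc]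
      right_inv := fun s => by ext; simp [mul_assoc]
      map_mul' := fun a b => by ext; simp [mul_assoc] }
  let γ : Herm F q ≃* Herm F q := (e.symm.trans κ).trans e
  have hγ : ∀ s, γ (e s) = e (κ s) := fun s => by simp [γ]
  have hfix := core hF he hq γ ⟨e ⟨r * r, hrr⟩, fun x => by
    obtain ⟨s, rfl⟩ := e.surjective x
    rw [hγ, hγ, ← map_inv, ← map_mul, ← map_mul]
    congr 1
    ext
    simp [κ, mul_assoc]⟩ (e c) (by
    rw [Subgroup.mem_center_iff]
    intro g
    obtain ⟨g, rfl⟩ := e.surjective g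
    rw [← map_mul, ← map_mul, Subgroup.mem_center_iff.1 hc g])
  rw [hγ] at hfix
  have hrc : r * c * r⁻¹ = c := congrArg Subtype.val (e.injective hfix)
  rw [Subgroup.mem_center_iff]
  intro g
  have hS : ∀ s ∈ S, s * (c : R) = c * s := fun s hs =>
    congrArg Subtype.val (Subgroup.mem_center_iff.1 hc ⟨s, hs⟩)
  rcases hr.2 g with h | h
  · have h1 := hS _ h
    have hrc' : r * c = c * r := mul_inv_eq_iff_eq_mul.1 hrc
    show g * c = c * g
    calc g * c = g * r * r⁻¹ * c := by group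
      _ = (g * r) * (r⁻¹ * c * r) * r⁻¹ := by group
      _ = (g * r) * c * r⁻¹ := by rw [mul_assoc r⁻¹, ← hrc', inv_mul_cancel_left]
      _ = c * (g * r) * r⁻¹ := by rw [h1]
      _ = c * g := by group
  · exact hS g h

end CfsgLib.HermCenter
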